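import Groth.Agent.AlgStLib.QuasiCompact
import Groth.Agent.AlgStLib.LocQInst
import Groth.Agent.AlgSpVal.ValThrough
import Groth.Agent.AlgSpVal.DvrThrough
import Groth.Agent.GerbFlat.Section

/-!
# Valuation rings through points of algebraic stacks
-/

set_option backward.isDefEq.respectTransparency false
set_option backward.isDefEq.respectTransparency.types false
set_option autoImplicit false

universe u

open CategoryTheory CategoryTheory.Functor CategoryTheory.Limits AlgebraicGeometry Opposite AlgSp IsLocalRing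
open Groth.Agent.FibBase Groth.Agent.AlgSpLib Groth.Agent.AlgStLib

namespace Groth.Agent.Val49

variable {S : Scheme.{u}} {𝒳 𝒴 : AlgSt.Cat S}

local notation "K₀" => Scheme.fppfPrecoverage

theorem locP_left_of_overMap {R : MorphismProperty Scheme.{u}} [IsEtLocal R] {U V : Over S} {s : U ⟶ V}
    (h : AlgSt.RepByAlgSpWith (LocP R) (AlgSt.overMap s)) : R s.left := by
  let G := BasedFunctor.comp (AlgSt.toOverCat U) (BasedFunctor.comp (AlgSt.overMap s) (AlgSt.ofOverCat V))
  have hG : AlgSt.RepByAlgSpWith (LocP R) (AlgSt.ofSpMap (spHom G)) :=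
    repByAlgSpWith_of_iso (isoOfSpMap G) (repByAlgSpWith_precomp (isEquivOver_toOverCat U)
      (repByAlgSpWith_postcomp (isEquivOver_ofOverCat V) h))
  have := locP_of_repBySpWith (IsAlgSpace.yon_obj V) (spHom G)
    (repBySpWith_of_repByAlgSpWith (AlgSt.ofSpMap (spHom G)) (BasedFunctor.id _) stableBC_locP isEquivOver_id hG
      (Iso.refl _))
  rw [show spHom G = (yon S).map s from spHom_toOverCat_comp (Iso.refl (AlgSt.overMap s))] at this
  exact locP_yon_map (P := R) this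

theorem ofChart_congr {U : Over S} {x x' : FibCat.overCat U ⥤ᵇ 𝒳} (e : x ≅ x') (t : ↥U.left) :
    AlgSt.Points.ofChart x t = AlgSt.Points.ofChart x' t := by
  rw [ofChart_eq_map, ofChart_eq_map, pts_map_congr e]

/-- Over a point of the target chart in the image there is a point of a chart of the base change. -/
theorem exists_point_chart {f : 𝒳 ⥤ᵇ 𝒴} (h𝒳 : AlgSt.IsAlgStack K₀ 𝒳) (h𝒴 : AlgSt.IsAlgStack K₀ 𝒴) {T U : Over S}
    {a : FibCat.overCat T ⥤ᵇ 𝒴} {c : FibCat.overCat U ⥤ᵇ FibCat.fp a f}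
    (hc : AlgSt.RepByAlgSpWith IsSurjectiveMor c) {q : U ⟶ T}
    (i : BasedFunctor.comp c (FibCat.fpFst a f) ≅ AlgSt.overMap q) (t : T.left) (x : AlgSt.Points 𝒳)
    (h : AlgSt.Points.ofChart a t = AlgSt.Points.map f x) :
    ∃ u : U.left, q.left u = t ∧ AlgSt.Points.ofChart (BasedFunctor.comp c (FibCat.fpSnd a f)) u = x := by
  have hg := fp_isFibGrpd (F := a) (G := f) (isFibGrpd_overCat T) h𝒳.isStack.1 h𝒴.isStack.1
  obtain ⟨w, hw₁, hw₂⟩ := exists_pts_fp h𝒳.isStack.1 h𝒴.isStack.1 (isFibGrpd_overCat T) f a (ptAt T t) x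
    (by rw [← ofChart_eq_map]; exact h)
  obtain ⟨u, rfl⟩ := ofChart_surjective hg hc w
  refine ⟨u, ?_, ?_⟩
  · rw [map_ofChart, ofChart_congr i, ofChart_eq_map] at hw₁
    have := congrArg (toSch T) hw₁
    rwa [toSch_map_overMap, toSch_ptAt, toSch_ptAt] at this
  · rw [← hw₂, map_ofChart]

theorem exists_valuationRing_lift (h𝒳 : AlgSt.IsAlgStack K₀ 𝒳) (h𝒴 : AlgSt.IsAlgStack K₀ 𝒴) (f : 𝒳 ⥤ᵇ 𝒴)
    (hf : AlgSt.LocQ (LocP @Flat) f) (A : Type u) [CommRing A] [IsDomain A] [ValuationRing A]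
    (sA : Spec (CommRingCat.of A) ⟶ S) (a : FibCat.overCat (Over.mk sA) ⥤ᵇ 𝒴)
    (ha : AlgSt.Points.ofChart a (closedPoint A) ∈ Set.range (AlgSt.Points.map f)) :
    ∃ (A' : Type u) (_ : CommRing A') (_ : IsDomain A') (_ : ValuationRing A') (φ : A →+* A'),
      Function.Injective φ ∧ IsLocalHom φ ∧
      ∃ x : FibCat.overCat (Over.mk (Spec.map (CommRingCat.ofHom φ) ≫ sA)) ⥤ᵇ 𝒳,
        Nonempty (BasedFunctor.comp x f ≅
          BasedFunctor.comp (AlgSt.overMap (Over.homMk (Spec.map (CommRingCat.ofHom φ)) rfl :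
            Over.mk (Spec.map (CommRingCat.ofHom φ) ≫ sA) ⟶ Over.mk sA)) a) := by
  let T : Over S := Over.mk sA
  obtain ⟨U, c, hcs, hc'⟩ := exists_atlas_fp (isAlgStack_overCat T) h𝒳 h𝒴 a f
  obtain ⟨q, ⟨iq⟩⟩ := GerbFlat.exists_overMap_iso (BasedFunctor.comp c (FibCat.fpFst a f))
  have hfp : AlgSt.IsAlgStack K₀ (FibCat.fp a f) := isAlgStack_fp (isAlgStack_overCat T) h𝒳 h𝒴.isStack h𝒴.diag a f
  have hflat : Flat q.left := by
    have h1 : AlgSt.LocQ (LocP @Flat) c :=
      (locQ_iff_repByAlgSpWith isSmoothLocalST_flat stableBC_locP (isLocalOnBase_fppf_locP _) (isAlgStack_overCat U)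
        hfp (repByAlgSp1_of_repByAlgSpWith hcs)).2 (repByAlgSpWith_flat_of_smooth hcs)
    have h2 := locQ_comp isSmoothLocalST_flat (fun _ _ _ hA hB hC _ _ h h' => locP_comp hA hB hC h h')
      (isAlgStack_overCat U) hfp (isAlgStack_overCat T) h1
      (locQ_fpFst isSmoothLocalST_flat stableBC_locP h𝒳 h𝒴 (isAlgStack_overCat T) a hf)
    exact locP_left_of_overMap (repByAlgSpWith_of_iso iq
      ((locQ_iff_repByAlgSpWith isSmoothLocalST_flat stableBC_locP (isLocalOnBase_fppf_locP _) (isAlgStack_overCat U)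
        (isAlgStack_overCat T) (repByAlgSp1_of_iso iq.symm
          (repByAlgSp1_of_repByAlgSp (repByAlgSp_overCat U) (repByAlgSp_overCat T) _))).1 h2))
  obtain ⟨x₀, hx₀⟩ := ha
  obtain ⟨u, hu, -⟩ := exists_point_chart h𝒳 h𝒴 hc' iq (closedPoint A) x₀ hx₀.symm
  let η : ↥T.left := (⟨⊥, Ideal.isPrime_bot⟩ : PrimeSpectrum A)
  have hη : η ⤳ q.left u := by
    rw [hu]
    exact IsLocalRing.specializes_closedPoint (show PrimeSpectrum A from η)
  have := hflat
  obtain ⟨u', hu', hu'η⟩ := Flat.generalizingMap (f := q.left) hη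
  let K' := U.left.residueField u'
  obtain ⟨A', i₂, hi₂, hι⟩ := AlgSpVal.exists_valuationRing_through (K := K') (U.left.fromSpecResidueField u') u
    ((congrArg (· ⤳ u) (U.left.fromSpecResidueField_apply u' _)).mpr hu')
  obtain ⟨φ, hφ⟩ : ∃ φ : CommRingCat.of A ⟶ CommRingCat.of A', Spec.map φ = i₂ ≫ q.left :=
    ⟨_, Spec.map_preimage _⟩
  have hloc : IsLocalHom φ.hom := by
    refine ((local_hom_TFAE φ.hom).out 0 4).2 ?_
    have h : Spec.map φ (closedPoint A') = (closedPoint A : ↥T.left) := by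
      rw [hφ, Scheme.Hom.comp_apply, hi₂]
      exact hu
    exact congrArg PrimeSpectrum.asIdeal h
  have hinj : Function.Injective φ.hom := by
    let ι : CommRingCat.of A' ⟶ CommRingCat.of K' := CommRingCat.ofHom (algebraMap A' K')
    have h : Spec.map (φ ≫ ι) (closedPoint K') = η := by
      rw [Spec.map_comp, hφ, ← Category.assoc]
      change ((Spec.map ι ≫ i₂) ≫ q.left) (closedPoint K') = η
      rw [hι, Scheme.Hom.comp_apply]
      refine (congrArg q.left (U.left.fromSpecResidueField_apply u' _)).trans hu'η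
    have h' : Ideal.comap (ι.hom.comp φ.hom) (maximalIdeal K') = ⊥ := congrArg PrimeSpectrum.asIdeal h
    rw [maximalIdeal_eq_bot, ← RingHom.ker_eq_comap_bot, ← RingHom.injective_iff_ker_eq_bot] at h'
    exact Function.Injective.of_comp (f := ι.hom) h'
  let iT : Over.mk (Spec.map φ ≫ sA) ⟶ U := CategoryTheory.Over.homMk i₂ (by
    change i₂ ≫ U.hom = Spec.map φ ≫ sA
    rw [hφ, Category.assoc, ← Over.w q]
    rfl)
  let t : Over.mk (Spec.map φ ≫ sA) ⟶ T := Over.homMk (Spec.map φ) rfl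
  refine ⟨A', inferInstance, inferInstance, inferInstance, φ.hom, hinj, hloc,
    BasedFunctor.comp (AlgSt.overMap iT) (BasedFunctor.comp c (FibCat.fpSnd a f)), ⟨?_⟩⟩
  exact (whiskerLeftIso (BasedFunctor.comp (AlgSt.overMap iT) c) (FibCat.fpIso a f)).symm ≪≫
    whiskerRightIso (whiskerLeftIso (AlgSt.overMap iT) iq ≪≫ overMapCompIso iT q ≪≫
      eqToIso (congrArg AlgSt.overMap (show iT ≫ q = t from Over.OverMorphism.ext hφ.symm))) a

theorem exists_valuationRing_witness (h𝒳 : AlgSt.IsAlgStack K₀ 𝒳) (h𝒴 : AlgSt.IsAlgStack K₀ 𝒴) (f : 𝒳 ⥤ᵇ 𝒴)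
    (hf : AlgSt.IsQuasiCompactMor K₀ f) (y : AlgSt.Points 𝒴) (hy : y ∈ closure (Set.range (AlgSt.Points.map f))) :
    ∃ (A : Type u) (_ : CommRing A) (_ : IsDomain A) (_ : ValuationRing A) (sA : Spec (CommRingCat.of A) ⟶ S)
      (a : FibCat.overCat (Over.mk sA) ⥤ᵇ 𝒴)
      (x : FibCat.overCat (Over.mk (Spec.map (CommRingCat.ofHom (algebraMap A (FractionRing A))) ≫ sA)) ⥤ᵇ 𝒳),
      Nonempty (BasedFunctor.comp x f ≅
        BasedFunctor.comp (AlgSt.overMap (Over.homMk (Spec.map (CommRingCat.ofHom (algebraMap A (FractionRing A)))) rfl :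
          Over.mk (Spec.map (CommRingCat.ofHom (algebraMap A (FractionRing A))) ≫ sA) ⟶ Over.mk sA)) a) ∧
      AlgSt.Points.ofChart a (closedPoint A) = y := by
  obtain ⟨W, w, hw, hw'⟩ := id h𝒴.atlas
  obtain ⟨v₀, hv₀⟩ := ofChart_surjective h𝒴.isStack.1 hw' y
  obtain ⟨V₀, hV₀, hv₀mem, -⟩ := exists_isAffineOpen_mem_and_subset (x := v₀) (U := (⊤ : W.left.Opens)) trivial
  let V : Over S := Over.mk (V₀.ι ≫ W.hom)
  let jV : V ⟶ W := Over.homMk V₀.ι rfl
  have : IsAffine V.left := hV₀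
  let b := BasedFunctor.comp (AlgSt.overMap jV) w
  let v : ↥V.left := ⟨v₀, hv₀mem⟩
  have hbv : AlgSt.Points.ofChart b v = y := (ofChart_overMap jV w v).trans hv₀
  obtain ⟨U, c, hU, hcs, hc'⟩ := hf _ (isAlgStack_overCat V) (isQuasiCompact_overCat V) b
  have : IsAffine U.left := hU
  obtain ⟨g, ⟨ig⟩⟩ := GerbFlat.exists_overMap_iso (BasedFunctor.comp c (FibCat.fpFst b f))
  have hcl : v ∈ closure (Set.range g.left) := by
    rw [mem_closure_iff]
    intro O hO hvO
    have hop : IsOpen (AlgSt.Points.ofChart b '' O) := by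
      have e : AlgSt.Points.ofChart b '' O = AlgSt.Points.ofChart w '' (V₀.ι '' O) := by
        rw [Set.image_image]
        exact congrArg (· '' O) (funext fun o => ofChart_overMap jV w o)
      rw [e]
      exact isOpenMap_ofChart h𝒴.isStack.1 (repByAlgSpWith_flat_of_smooth hw) (repByAlgSpWith_lfp_of_smooth hw) _
        (V₀.ι.isOpenEmbedding.isOpenMap O hO)
    obtain ⟨_, ⟨o, ho, rfl⟩, x, hx⟩ := mem_closure_iff.1 hy _ hop ⟨v, hvO, hbv⟩
    obtain ⟨u, hu, -⟩ := exists_point_chart h𝒳 h𝒴 hc' ig o x hx.symm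
    exact ⟨o, ho, u, hu⟩
  obtain ⟨u, hu⟩ := AlgSpVal.exists_specializes_of_mem_closure_range g.left hcl
  let K' := U.left.residueField u
  obtain ⟨A, i, hi, hik⟩ := AlgSpVal.exists_valuationRing_through (K := K')
    (U.left.fromSpecResidueField u ≫ g.left) v
    ((congrArg (· ⤳ v) ((Scheme.Hom.comp_apply _ g.left _).trans
      (congrArg g.left (U.left.fromSpecResidueField_apply u _)))).mpr hu)
  let σ : K' →+* FractionRing A := (FractionRing.algEquiv A K').symm.toRingEquiv.toRingHom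
  have eσ : σ.comp (algebraMap A K') = algebraMap A (FractionRing A) :=
    RingHom.ext fun a => (FractionRing.algEquiv A K').symm.commutes a
  let k := Spec.map (CommRingCat.ofHom σ) ≫ U.left.fromSpecResidueField u
  have hk : k ≫ g.left = Spec.map (CommRingCat.ofHom (algebraMap A (FractionRing A))) ≫ i := by
    rw [Category.assoc, ← hik, ← Category.assoc, ← Spec.map_comp, ← CommRingCat.ofHom_comp, eσ]
  let sA := i ≫ V.hom
  let iV : Over.mk sA ⟶ V := Over.homMk i rfl
  let t : Over.mk (Spec.map (CommRingCat.ofHom (algebraMap A (FractionRing A))) ≫ sA) ⟶ Over.mk sA :=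
    Over.homMk (Spec.map (CommRingCat.ofHom (algebraMap A (FractionRing A)))) rfl
  let kU : Over.mk (Spec.map (CommRingCat.ofHom (algebraMap A (FractionRing A))) ≫ sA) ⟶ U :=
    Over.homMk k (by
      change k ≫ U.hom = _ ≫ i ≫ V.hom
      rw [← Over.w g, ← Category.assoc, hk, Category.assoc])
  refine ⟨A, inferInstance, inferInstance, inferInstance, sA, BasedFunctor.comp (AlgSt.overMap iV) b,
    BasedFunctor.comp (AlgSt.overMap kU) (BasedFunctor.comp c (FibCat.fpSnd b f)), ⟨?_⟩, ?_⟩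
  · exact (whiskerLeftIso (BasedFunctor.comp (AlgSt.overMap kU) c) (FibCat.fpIso b f)).symm ≪≫
      whiskerRightIso (whiskerLeftIso (AlgSt.overMap kU) ig ≪≫ overMapCompIso kU g ≪≫
        eqToIso (congrArg AlgSt.overMap (show kU ≫ g = t ≫ iV from Over.OverMorphism.ext hk)) ≪≫
        (overMapCompIso t iV).symm) b
  · exact (ofChart_overMap iV b _).trans ((congrArg (AlgSt.Points.ofChart b) hi).trans hbv)

end Groth.Agent.Val49
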